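import Cfsg.Agent.H132.S5.Main
import Cfsg.Agent.H461.T5.Cube
import Cfsg.Agent.H106.MOwnPSU_m3
import Cfsg.Agent.FastGrp
import Cfsg.Agent.Prune
set_option linter.all false
prune_inst 0x7f00000000000000000000000000000000000000000000000000000000000000000000000000000000000000000000000000000000000000000000000000000000000000000000000000000000000000003fffffffffffffffffffffffffffbeffbdffffffff
open scoped Cfsg.Agent.FastGrp

/-!
# Strong pairs of elements of order 5 in groups with Sylow 5-subgroups of order 125: a certificate (helper461)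

`Cert G` : elements `a`, `b`, `c` of order 5 with `a b = b a c`, `c ≠ 1` commuting with `a` and `b`; representatives `R 0`, ...,
`R (k - 1)` of the classes of elements of order 5 (each representative of the classes of subgroups of order 5 of `⟨a, b⟩` is
conjugate to a power of some `R i`, and `R i` is conjugate to `(R i) ^ 2`); for `i < j < k` a conjugate `s` of `R j` such that
`z = R i * s` has order prime to 5 and `R i * z` has order prime to 5 and to the order of `z`.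
`spair_of_cert` : the strong pairs of a simple group, from the black boxes for the pairs of conjugate elements.
-/

set_option autoImplicit false

universe u

namespace Cfsg.Agent.H461.T5S

open Subgroup Cfsg Cfsg.Agent.H533.T5 Cfsg.Agent.H132.S5 Cfsg.Agent.H106.MT Cfsg.Agent.H461.T5

/-- a certificate of non-solvability: `u ^ a = v ^ b = (u v) ^ c = 1` with `a`, `b`, `c` pairwise coprime -/
theorem not_solvable_of_coprime {G : Type*} [Group G] {H : Subgroup G} {u v : G} (hu : u ∈ H) (hv : v ∈ H) {a b c : ℕ}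
    (h1 : u ^ a = 1) (h2 : v ^ b = 1) (h3 : (u * v) ^ c = 1) (hab : a.Coprime b) (hac : a.Coprime c)
    (hbc : b.Coprime c) (hne : v ≠ 1) : ¬ Group.IsSolvable H := by
  intro hs
  set K := _root_.Subgroup.closure ({u, v} : Set G) with hK
  have hKH : K ≤ H := by
    rw [hK, closure_le]
    rintro x (rfl | rfl)
    · exact hu
    · exact hv
  have hKs : Group.IsSolvable K := Group.isSolvable_of_isSolvable_injective (f := inclusion hKH) (inclusion_injective hKH)
  have huK : u ∈ K := _root_.Subgroup.subset_closure (by simp)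
  have hvK : v ∈ K := _root_.Subgroup.subset_closure (by simp)
  let f : K →* Abelianization K := Abelianization.of
  set x := f ⟨u, huK⟩ with hx
  set y := f ⟨v, hvK⟩ with hy
  have e1 : x ^ a = 1 := by
    rw [hx, ← map_pow, ← map_one f]; congr 1; exact Subtype.ext h1
  have e2 : y ^ b = 1 := by
    rw [hy, ← map_pow, ← map_one f]; congr 1; exact Subtype.ext h2
  have e3 : (x * y) ^ c = 1 := by
    rw [hx, hy, ← map_mul, ← map_pow, ← map_one f]; congr 1; exact Subtype.ext h3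
  rw [mul_pow] at e3
  have ex : x = 1 := by
    have e4 : (x ^ c) ^ b = 1 := by
      have : x ^ c = (y ^ c)⁻¹ := eq_inv_of_mul_eq_one_left e3
      rw [this, inv_pow, ← pow_mul, mul_comm, pow_mul, e2, one_pow, inv_one]
    have e5 : orderOf x ∣ 1 := by
      have d1 : orderOf x ∣ a := orderOf_dvd_of_pow_eq_one e1
      have d2 : orderOf x ∣ c * b := orderOf_dvd_of_pow_eq_one (by rw [pow_mul]; exact e4)
      have : Nat.Coprime a (c * b) := Nat.Coprime.mul_right hac hab
      rw [← this]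
      exact Nat.dvd_gcd d1 d2
    exact orderOf_eq_one_iff.1 (Nat.dvd_one.1 e5)
  have ey : y = 1 := by
    rw [ex, one_pow, one_mul] at e3
    have e6 : orderOf y ∣ 1 := by
      rw [← hbc]
      exact Nat.dvd_gcd (orderOf_dvd_of_pow_eq_one e2) (orderOf_dvd_of_pow_eq_one e3)
    exact orderOf_eq_one_iff.1 (Nat.dvd_one.1 e6)
  have hf : ∀ k ∈ K, ∀ hk : k ∈ K, f ⟨k, hk⟩ = 1 := by
    intro k hk
    induction hk using closure_induction with
    | mem z hz =>
      intro hz'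
      rcases hz with rfl | rfl
      · exact ex
      · exact ey
    | one => intro h; exact map_one f
    | mul z w hz hw iz iw =>
      intro h
      have : (⟨z * w, h⟩ : K) = ⟨z, hz⟩ * ⟨w, hw⟩ := rfl
      rw [this, map_mul, iz hz, iw hw, mul_one]
    | inv z hz iz =>
      intro h
      have : (⟨z⁻¹, h⟩ : K) = ⟨z, hz⟩⁻¹ := rfl
      rw [this, map_inv, iz hz, inv_one]
  have hcomm : commutator K = ⊤ := by
    rw [eq_top_iff]
    intro k _
    have h1 := hf k.1 k.2 k.2
    rw [← Abelianization.ker_of]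
    exact h1
  have hnt : Nontrivial K := ⟨⟨⟨v, hvK⟩, 1, fun h => hne (congrArg Subtype.val h)⟩⟩
  exact (Group.IsSolvable.commutator_lt_top_of_nontrivial K).ne hcomm

/-- the certificate for two elements of different classes -/
def Cross {G : Type*} [Group G] (s t : G) : Prop :=
  ∃ (g z : G) (n m : ℕ), s * g * t = z * g ∧ z ≠ 1 ∧ z ^ n = 1 ∧ (s * z) ^ m = 1 ∧ Nat.Coprime 5 n ∧ Nat.Coprime 5 m ∧
    Nat.Coprime n m

/-- the certificate -/
def Cert (G : Type*) [Group G] : Prop :=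
  ∃ (a b c : G) (R : ℕ → G) (k : ℕ), a ^ 5 = 1 ∧ b ^ 5 = 1 ∧ c ^ 5 = 1 ∧ c ≠ 1 ∧ a * c = c * a ∧ b * c = c * b ∧
    a * b = b * a * c ∧ (∀ r, Rp 5 a b c r → ∃ i < k, ∃ (u : G) (n : ℕ), u * r * u⁻¹ = R i ^ n) ∧
    (∀ i < k, R i ^ 5 = 1) ∧ (∀ i < k, ∃ u, u * R i * u⁻¹ = R i ^ 2) ∧
    ∀ i j, i < j → j < k → Cross (R i) (R j)

theorem Cross.map {G H : Type*} [Group G] [Group H] (e : G ≃* H) {s t : G} (h : Cross s t) : Cross (e s) (e t) := by
  obtain ⟨g, z, n, m, h1, h2, h3, h4, h5, h6, h7⟩ := h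
  refine ⟨e g, e z, n, m, ?_, ?_, ?_, ?_, h5, h6, h7⟩
  · rw [← map_mul, ← map_mul, h1, map_mul]
  · rwa [Ne, EmbeddingLike.map_eq_one_iff]
  · rw [← map_pow, h3, map_one]
  · rw [← map_mul, ← map_pow, h4, map_one]

theorem Cert.congr {G H : Type*} [Group G] [Group H] (h : Cert G) (e : G ≃* H) : Cert H := by
  obtain ⟨a, b, c, R, k, ha, hb, hc, hc1, hac, hbc, hab, h1, h2, h3, h4⟩ := h
  refine ⟨e a, e b, e c, fun i => e (R i), k, ?_, ?_, ?_, ?_, ?_, ?_, ?_, ?_, ?_, ?_, ?_⟩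
  · rw [← map_pow, ha, map_one]
  · rw [← map_pow, hb, map_one]
  · rw [← map_pow, hc, map_one]
  · rwa [Ne, EmbeddingLike.map_eq_one_iff]
  · rw [← map_mul, hac, map_mul]
  · rw [← map_mul, hbc, map_mul]
  · rw [← map_mul, hab, map_mul, map_mul]
  · intro r hr
    have hr' : Rp 5 a b c (e.symm r) := by
      rcases hr with rfl | rfl | ⟨t, ht, rfl⟩
      · exact Or.inl (e.symm_apply_apply c)
      · exact Or.inr (Or.inl (e.symm_apply_apply a))
      · refine Or.inr (Or.inr ⟨t, ht, ?_⟩)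
        rw [← map_pow, ← map_mul, e.symm_apply_apply]
    obtain ⟨i, hi, u, n, h⟩ := h1 _ hr'
    refine ⟨i, hi, e u, n, ?_⟩
    have h5 := congrArg e h
    rwa [map_mul, map_mul, map_inv, map_pow, e.apply_symm_apply] at h5
  · intro i hi
    rw [← map_pow, h2 i hi, map_one]
  · intro i hi
    obtain ⟨u, hu⟩ := h3 i hi
    refine ⟨e u, ?_⟩
    rw [← map_inv, ← map_mul, ← map_mul, hu, map_pow]
  · intro i j hij hj
    exact (h4 i j hij hj).map e

theorem spair_of_cross {G : Type*} [Group G] {s t : G} (hs : s ^ 5 = 1) (h : Cross s t) :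
    SPair 5 (⊤ : Subgroup G) s t := by
  obtain ⟨g, z, n, m, h1, h2, h3, h4, h5, h6, h7⟩ := h
  have hz : s * (g * t * g⁻¹) = z := by
    calc s * (g * t * g⁻¹) = s * g * t * g⁻¹ := by group
      _ = z := by rw [h1]; group
  refine SPair.mk' (by norm_num) ⟨g, mem_top g, ?_⟩ ⟨g, mem_top g, fun k hk => ?_⟩
  · have m1 : s ∈ _root_.Subgroup.closure ({s, g * t * g⁻¹} : Set G) := _root_.Subgroup.subset_closure (by simp)
    have m2 : g * t * g⁻¹ ∈ _root_.Subgroup.closure ({s, g * t * g⁻¹} : Set G) := _root_.Subgroup.subset_closure (by simp)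
    have m3 : z ∈ _root_.Subgroup.closure ({s, g * t * g⁻¹} : Set G) := by
      rw [← hz]
      exact mul_mem m1 m2
    exact not_solvable_of_coprime m1 m3 hs h3 h4 h5 h6 h7 h2
  · rw [hz] at hk
    have d1 : orderOf z ∣ n := orderOf_dvd_of_pow_eq_one h3
    have d2 : orderOf z ∣ 5 ^ k := orderOf_dvd_of_pow_eq_one hk
    have h8 : Nat.Coprime n (5 ^ k) := (Nat.Coprime.pow_left k h5).symm
    have h9 : orderOf z ∣ 1 := by
      rw [← h8]
      exact Nat.dvd_gcd d1 d2
    exact h2 (orderOf_eq_one_iff.1 (Nat.dvd_one.1 h9))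

section Main

variable {K : Type u} [Group K]

theorem conj_symm {u s t : K} (h : u * s * u⁻¹ = t) : u⁻¹ * t * u⁻¹⁻¹ = s := by
  rw [← h]
  group

/-- every element of order 5 is conjugate to a representative -/
theorem exists_conj_of_cert [Finite K] (h4 : ¬ 5 ^ 4 ∣ Nat.card K) {a b c : K} {R : ℕ → K} {k : ℕ} (ha : a ^ 5 = 1)
    (hb : b ^ 5 = 1) (hc : c ^ 5 = 1) (hc1 : c ≠ 1) (hac : a * c = c * a) (hbc : b * c = c * b) (hab : a * b = b * a * c)
    (h1 : ∀ r, Rp 5 a b c r → ∃ i < k, ∃ (u : K) (n : ℕ), u * r * u⁻¹ = R i ^ n) (h2 : ∀ i < k, R i ^ 5 = 1)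
    (h3 : ∀ i < k, ∃ u, u * R i * u⁻¹ = R i ^ 2) {z : K} (hz : orderOf z = 5) :
    ∃ i < k, ∃ w : K, w * z * w⁻¹ = R i := by
  have hp : Nat.Prime 5 := by norm_num
  have : Fact (Nat.Prime 5) := ⟨hp⟩
  -- the Sylow subgroup
  obtain ⟨Q, hQ, haQ, hbQ⟩ := Cfsg.Agent.H573.exists_pgroup_of_class_two (p := 5) (a := a) (b := b) (c := c) (i := 1) (j := 1)
    (k := 1) (by rw [pow_one, ha]) (by rw [pow_one, hb]) (by rw [pow_one, hc]) hac hbc hab
  have hle : _root_.Subgroup.closure ({a, b} : Set K) ≤ Q := by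
    rw [closure_le]
    rintro z (rfl | rfl)
    · exact haQ
    · exact hbQ
  have hP : IsPGroup 5 (closure ({a, b} : Set K)) := hQ.to_le hle
  have hidx : ¬ 5 ∣ (closure ({a, b} : Set K)).index := by
    intro hd
    obtain ⟨n, hn⟩ := IsPGroup.iff_card.1 hP
    have hn3 : 3 ≤ n := by
      by_contra hlt
      have hcomm : ∀ u v : closure ({a, b} : Set K), u * v = v * u := by
        have hn2 : n ≤ 2 := by omega
        interval_cases n
        · have h1 : Subsingleton (closure ({a, b} : Set K)) := (Nat.card_eq_one_iff_unique.1 (by simpa only [_root_.Subgroup.card_eq_one, _root_.Subgroup.closure_eq_bot_iff, _root_.Set.subset_singleton_iff, _root_.Set.mem_insert_iff, _root_.Set.mem_singleton_iff, _root_.forall_eq_or_imp, _root_.forall_eq, _root_.pow_zero] using hn)).1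
          exact fun u v => Subsingleton.elim _ _
        · have h1 : IsCyclic (closure ({a, b} : Set K)) := isCyclic_of_prime_card (p := 5) (by simpa only [_root_.pow_one] using hn)
          let _ := IsCyclic.commGroup (α := (closure ({a, b} : Set K)))
          exact fun u v => mul_comm u v
        · exact fun u v => (IsPGroup.isMulCommutative_of_card_eq_prime_sq hn).1.1 u v
      have h1 := congrArg Subtype.val (hcomm ⟨a, _root_.Subgroup.subset_closure (by simp)⟩ ⟨b, _root_.Subgroup.subset_closure (by simp)⟩)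
      change a * b = b * a at h1
      rw [hab] at h1
      exact hc1 (mul_eq_left.1 h1)
    apply h4
    rw [← Subgroup.card_mul_index (_root_.Subgroup.closure ({a, b} : Set K)), hn]
    calc 5 ^ 4 = 5 ^ 3 * 5 := by rw [pow_succ]
      _ ∣ 5 ^ n * (closure ({a, b} : Set K)).index := Nat.mul_dvd_mul (pow_dvd_pow 5 hn3) hd
  have hne1 : z ≠ 1 := by
    rintro rfl
    rw [orderOf_one] at hz
    omega
  have hconj1 : ∀ g : K, g * z * g⁻¹ ≠ 1 := by
    intro g h
    apply hne1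
    have h2 : z = g⁻¹ * (g * z * g⁻¹) * g := by group
    rw [h2, h]
    group
  obtain ⟨g, hg⟩ := Cfsg.Agent.H533.T5.exists_conj_mem_of_index hidx hz
  obtain ⟨r, hr, u, n, hn, h⟩ := exists_rep hp ha hc hbc hac hab hb hg (hconj1 g)
  obtain ⟨i, hi, v, m, hv⟩ := h1 r hr
  -- `z` is conjugate to a power of `R i`
  have hzi : (v * u⁻¹ * g) * z * (v * u⁻¹ * g)⁻¹ = R i ^ (m * n) := by
    calc (v * u⁻¹ * g) * z * (v * u⁻¹ * g)⁻¹ = v * (u⁻¹ * (g * z * g⁻¹) * u) * v⁻¹ := by group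
      _ = v * r ^ n * v⁻¹ := by rw [h]; group
      _ = (v * r * v⁻¹) ^ n := by rw [conj_pow]
      _ = R i ^ (m * n) := by rw [hv, pow_mul]
  have hmod : R i ^ (m * n) = R i ^ (m * n % 5) := by
    conv_lhs => rw [← Nat.div_add_mod (m * n) 5, pow_add, pow_mul, h2 i hi, one_pow, one_mul]
  have hlt : m * n % 5 < 5 := Nat.mod_lt _ (by norm_num)
  rw [hmod] at hzi
  obtain ⟨w, hw⟩ := h3 i hi
  have h5 := h2 i hi
  have w4 : w⁻¹ * (R i ^ 2) * w⁻¹⁻¹ = R i := conj_symm hw
  have w3 : (w⁻¹ * w⁻¹) * (R i ^ 4) * (w⁻¹ * w⁻¹)⁻¹ = R i := by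
    calc (w⁻¹ * w⁻¹) * (R i ^ 4) * (w⁻¹ * w⁻¹)⁻¹ = w⁻¹ * (w⁻¹ * (R i ^ 2) * w⁻¹⁻¹) ^ 2 * w⁻¹⁻¹ := by
          rw [conj_pow, ← pow_mul]; simp only [mul_inv_rev, inv_inv, mul_assoc]
      _ = R i := by rw [w4, w4]
  have w2 : (w⁻¹ * w⁻¹ * w⁻¹) * (R i ^ 3) * (w⁻¹ * w⁻¹ * w⁻¹)⁻¹ = R i := by
    have e1 : R i ^ 3 = (R i ^ 2) ^ 4 := by
      rw [← pow_mul, show 2 * 4 = 5 + 3 by norm_num, pow_add, h5, one_mul]
    calc (w⁻¹ * w⁻¹ * w⁻¹) * (R i ^ 3) * (w⁻¹ * w⁻¹ * w⁻¹)⁻¹ = (w⁻¹ * w⁻¹) * (w⁻¹ * (R i ^ 2) * w⁻¹⁻¹) ^ 4 * (w⁻¹ * w⁻¹)⁻¹ := by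
          rw [e1, conj_pow]; simp only [mul_inv_rev, inv_inv, mul_assoc]
      _ = R i := by rw [w4, w3]
  generalize hq : m * n % 5 = q at hzi hlt
  refine ⟨i, hi, ?_⟩
  have key : ∀ (x y : K), y * R i ^ q * y⁻¹ = R i → x * z * x⁻¹ = R i ^ q → ∃ w : K, w * z * w⁻¹ = R i := by
    intro x y hy hx
    refine ⟨y * x, ?_⟩
    calc y * x * z * (y * x)⁻¹ = y * (x * z * x⁻¹) * y⁻¹ := by group
      _ = R i := by rw [hx, hy]
  interval_cases q
  · exact absurd (by rw [hzi, pow_zero]) (hconj1 (v * u⁻¹ * g))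
  · exact ⟨_, by rw [hzi, pow_one]⟩
  · exact key _ _ w4 hzi
  · exact key _ _ w2 hzi
  · exact key _ _ w3 hzi

/-- **The certificate**: the pairs of elements of order 5. -/
theorem spair_of_cert [Finite K] [IsSimpleGroup K] (hna : ¬ IsMulCommutative K) (B : SBox.{u} 5)
    (h4 : ¬ 5 ^ 4 ∣ Nat.card K) (h : Cert K) {x y : K} (hx : orderOf x = 5) (hy : orderOf y = 5) :
    SPair 5 (⊤ : Subgroup K) x y := by
  obtain ⟨a, b, c, R, k, ha, hb, hc, hc1, hac, hbc, hab, h1, h2, h3, hcr⟩ := h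
  obtain ⟨i, hi, u, hu⟩ := exists_conj_of_cert h4 ha hb hc hc1 hac hbc hab h1 h2 h3 hx
  obtain ⟨j, hj, v, hv⟩ := exists_conj_of_cert h4 ha hb hc hc1 hac hbc hab h1 h2 h3 hy
  rcases lt_trichotomy i j with hij | hij | hij
  · have h5 := spair_of_cross (h2 i hi) (hcr i j hij hj)
    rw [← hu, ← hv] at h5
    exact (h5.conj_left (mem_top u)).conj_right (mem_top v)
  · subst hij
    have h5 : IsConj x y := by
      rw [isConj_iff]
      refine ⟨v⁻¹ * u, ?_⟩
      calc v⁻¹ * u * x * (v⁻¹ * u)⁻¹ = v⁻¹ * (u * x * u⁻¹) * v := by group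
        _ = v⁻¹ * (v * y * v⁻¹) * v := by rw [hu, hv]
        _ = y := by group
    obtain ⟨s, hs⟩ := isConj_iff.1 h5.symm
    exact SPair.mk' (by norm_num) (apair_of_isConj_zpow B.rs (by norm_num) hna hx (s := s) (j := 1) (by rw [zpow_one, hs]))
      (bpair_of_isConj B.aa (by norm_num) hna hx h5)
  · have h5 := (spair_of_cross (h2 j hj) (hcr j i hij hi)).symm
    rw [← hu, ← hv] at h5
    exact (h5.conj_left (mem_top u)).conj_right (mem_top v)

end Main

end Cfsg.Agent.H461.T5S
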